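import Groth.Agent.Lib.HodgeDim13.Main
import Groth.Agent.Lib.RRKL13.Descent
import Groth.Agent.Lib.KLFin22.Main
import Groth.Agent.Lib.CubeField.AmpleExists
import Groth.Agent.Lib.RelAmple18.Ops
import Groth.Agent.Lib.Seesaw13.KL
import Groth.Agent.Lib.AbRigid.SmoothGI

/-!
# The cohomology of the structure sheaf of an abelian variety over an algebraically closed field
-/

universe u

open CategoryTheory Limits MonoidalCategory CartesianMonoidalCategory AlgebraicGeometry
open scoped MonObj GrpObj

set_option linter.style.haveILetI false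
set_option linter.unusedSectionVars false
set_option maxHeartbeats 1000000
set_option backward.isDefEq.respectTransparency false

noncomputable section

namespace Groth.Agent.HodgeDim13

/-- `h^n(A, O_A) = C(g, n)`. -/
theorem finrank_HH_structure_of_isAlgClosed (k : Type u) [Field k] [IsAlgClosed k]
    (A : Over (Spec (CommRingCat.of k))) [GrpObj A] [IsProper A.hom] [GeometricallyIntegral A.hom]
    {g : ℕ} (hg : topologicalKrullDim A.left = g) [A.left.Over (Spec (CommRingCat.of k))]
    (hover : A.left ↘ Spec (CommRingCat.of k) = A.hom) (n : ℕ) :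
    Module.finrank k (Coh.HH A.left (Coh.structureModule A.left) n) = g.choose n := by
  haveI := isCommMonObj_of_isProper_of_geometricallyIntegral A
  haveI : Smooth A.hom := @smooth_of_grpObj k _ _ A.hom _ (show GrpObj (Over.mk A.hom) from ‹GrpObj A›) _
  haveI : GeometricallyConnected A.hom := CubeField.geometricallyConnected_of_irreducible A.hom
  obtain ⟨L, hLa⟩ := CubeField.exists_isAmple A
  have hLr : RelAmple.IsRelAmple A.hom L := (RA.isRelAmple_iff_isAmple A.hom).2 hLa
  have hL : PicF.IsInvertible L := RA.isInvertible_of_isRelAmple A.hom hLr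
  obtain ⟨KL, iK, hK⟩ := Seesaw13.exists_isKL (A := A) hL
  haveI : IsFinite KL.hom := KLFin22.isFinite_KL L hLr KL iK hK
  obtain ⟨gK, Q, gQ, q, P, hP, hgi, hqm, hQp, hQg, hqfin, -, hqs, hker, hPL, hPq⟩ := RRKL13.exists_pLike hL hK
  haveI := hQp; haveI := hQg
  haveI : Smooth Q.hom := @smooth_of_grpObj k _ _ Q.hom _ (show GrpObj (Over.mk Q.hom) from gQ) _
  exact finrank_HH_structure hP hPL hg hover n

end Groth.Agent.HodgeDim13
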