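import Groth.Agent.Lib.HodgeDim13.Final
import Groth.Agent.Lib.GrpOmega.Sections
import Groth.Agent.Lib.DeRhamH7.Terms
import Groth.Agent.Lib.AmpleFin18.ProjFree
import Groth.Agent.Lib.CurveCM.Span
import Groth.Agent.Lib.GrpCM20.Basic
import Groth.Agent.Lib.TopDimLib.Basic

/-!
# Exterior powers of the differentials of an abelian variety and their cohomology
-/

universe u

open CategoryTheory CategoryTheory.Limits MonoidalCategory CartesianMonoidalCategory AlgebraicGeometry TopologicalSpace Opposite
open scoped MonObj GrpObj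

set_option linter.style.haveILetI false
set_option linter.unusedSectionVars false
set_option maxHeartbeats 1000000
set_option backward.isDefEq.respectTransparency false
set_option backward.isDefEq.respectTransparency.types false

attribute [local instance] Abelian.hasFiniteBiproducts

noncomputable section

namespace Groth.Agent.HodgeDim13

open Groth.Agent.P1Split (IsBas)

/-- The number of members of a basis near a point does not depend on the basis. -/
theorem card_eq_of_isBas {X : Scheme.{u}} {M : X.Modules} {r r' : ℕ} {D D' : X.Opens} {e : Fin r → Γ(M, D)}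
    {e' : Fin r' → Γ(M, D')} (he : IsBas M D e) (he' : IsBas M D' e') {x : X} (hx : x ∈ D) (hx' : x ∈ D') :
    r = r' := by
  haveI : Nonempty ((D ⊓ D' : X.Opens).toScheme) := ⟨⟨x, hx, hx'⟩⟩
  haveI : Nontrivial Γ(X, D ⊓ D') := Scheme.component_nontrivial X _
  have h := Module.finrank_eq_card_basis (DeRhamH7.basOf he (inf_le_left : D ⊓ D' ≤ D))
  rw [Module.finrank_eq_card_basis (DeRhamH7.basOf he' (inf_le_right : D ⊓ D' ≤ D'))] at h
  simpa using h.symm

/-- An exterior power of a module with a global basis is free. -/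
theorem nonempty_iso_freeMod_extPow {X : Scheme.{u}} {E L : X.Modules} {p r : ℕ} (hL : ExtPow.IsExtPow p E L)
    {e : Fin r → Γ(E, (⊤ : X.Opens))} (he : IsBas E ⊤ e) : Nonempty (FlatMod.freeMod X (r.choose p) ≅ L) := by
  classical
  obtain ⟨φ, hφ⟩ : ∃ φ : ∀ U : X.affineOpens, Γ(L, U.1) ≃ₗ[Γ(X, U.1)] ↥(⋀[Γ(X, U.1)]^p Γ(E, U.1)),
      ∀ (U V : X.affineOpens) (h : V.1 ≤ U.1) (e : Fin p → Γ(E, U.1)),
        M1.mres L h ((φ U).symm (exteriorPower.ιMulti _ p e)) =
          (φ V).symm (exteriorPower.ιMulti _ p fun j => M1.mres E h (e j)) := hL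
  have hcard : Fintype.card (Set.powersetCard (Fin r) p) = r.choose p := by
    rw [← Nat.card_eq_fintype_card, Set.powersetCard.card, Nat.card_eq_fintype_card, Fintype.card_fin]
  let σ : Fin (r.choose p) ≃ Set.powersetCard (Fin r) p := (Fintype.equivFinOfCardEq hcard).symm
  let w : ∀ U : X.affineOpens, Fin (r.choose p) → Γ(L, U.1) := fun U j =>
    (φ U).symm (exteriorPower.ιMulti_family Γ(X, U.1) p (fun i => M1.mres E le_top (e i)) (σ j))
  have hw : ∀ (U V : X.affineOpens) (h : V.1 ≤ U.1) j, M1.mres L h (w U j) = w V j := by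
    intro U V h j
    show M1.mres L h ((φ U).symm _) = (φ V).symm _
    rw [exteriorPower.ιMulti_family, exteriorPower.ιMulti_family, hφ U V h]
    congr 2
    funext a
    exact M1.mres_mres E _ _ _
  have hbas : ∀ U : X.affineOpens, IsBas L U.1 (w U) := fun U => DeRhamH7.isBas_of_affine fun V hV haff => by
    let b := (((DeRhamH7.basOf he (le_top : V ≤ ⊤)).exteriorPower p).map (φ ⟨V, haff⟩).symm).reindex σ.symm
    have key : ∀ j, M1.mres L hV (w U j) = b j := by
      intro j
      rw [hw U ⟨V, haff⟩ hV, Module.Basis.reindex_apply, Equiv.symm_symm, Module.Basis.map_apply,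
        exteriorPower.basis_apply]
      show (φ ⟨V, haff⟩).symm _ = _
      rw [exteriorPower.ιMulti_family, exteriorPower.ιMulti_family]
      congr 2
      funext a
      exact (DeRhamH7.basOf_apply he le_top _).symm
    simp only [key]
    convert b.equivFun.symm.bijective using 1
    funext c
    exact (b.equivFun_symm_apply c).symm
  -- glue the local sections
  have hg : ∀ j, ∃ s : Γ(L, (⊤ : X.Opens)), ∀ U : X.affineOpens, M1.mres L le_top s = w U j := by
    intro j
    obtain ⟨s, hs, -⟩ := TopCat.Sheaf.existsUnique_gluing' ⟨_, L.isSheaf⟩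
      (fun U : X.affineOpens => U.1) ⊤ (fun _ => homOfLE le_top)
      (fun x _ => by
        obtain ⟨U, hU, hxU, -⟩ := exists_isAffineOpen_mem_and_subset (X := X) (x := x) (U := ⊤) trivial
        exact Opens.mem_iSup.2 ⟨⟨U, hU⟩, hxU⟩)
      (fun U => w U j) (fun U V => by
        show M1.mres L inf_le_left (w U j) = M1.mres L inf_le_right (w V j)
        refine M1.section_ext _ _ fun x hx => ?_
        obtain ⟨W, hW, hxW, hWsub⟩ := exists_isAffineOpen_mem_and_subset (X := X) (x := x) (U := U.1 ⊓ V.1) hx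
        have hWsub' : W ≤ U.1 ⊓ V.1 := hWsub
        rw [← M1.germ_mres L hWsub' hxW, ← M1.germ_mres L hWsub' hxW]
        refine congrArg _ ?_
        rw [M1.mres_mres, M1.mres_mres, hw U ⟨W, hW⟩, hw V ⟨W, hW⟩])
    exact ⟨s, hs⟩
  choose s hs using hg
  refine CurveCoh17.nonempty_iso_freeMod_of_isBas (e := s) (P1Split.isBas_of_stalk fun x hx => ?_)
  obtain ⟨U, hU, hxU, -⟩ := exists_isAffineOpen_mem_and_subset (X := X) (x := x) (U := ⊤) trivial
  have hb := (hbas ⟨U, hU⟩).stalk hxU
  simp only [← hs _ ⟨U, hU⟩, M1.germ_mres] at hb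
  exact hb

/-- A free module. -/
theorem finrank_HH_freeMod (k : Type u) [Field k] {X : Scheme.{u}} [X.Over (Spec (CommRingCat.of k))] (r n : ℕ)
    [Module.Finite k (Coh.HH X (Coh.structureModule X) n)] :
    Module.finrank k (Coh.HH X (FlatMod.freeMod X r) n) = r * Module.finrank k (Coh.HH X (Coh.structureModule X) n) := by
  open CurveCoh17 in
  let G : Fin r → X.Modules := fun _ => Coh.structureModule X
  let e : (⨁ G) ≅ FlatMod.freeMod X r := biproduct.isoCoproduct G
  let a : Coh.HH X (⨁ G) n ≃ₗ[k] (Fin r → Coh.HH X (Coh.structureModule X) n) :=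
    { toFun := fun x i => CurveCoh17.hmap k (biproduct.π G i) n x
      map_add' := fun x y => funext fun i => map_add _ x y
      map_smul' := fun c x => funext fun i => map_smul _ c x
      invFun := fun y => ∑ i, CurveCoh17.hmap k (biproduct.ι G i) n (y i)
      left_inv := fun x => by
        show ∑ i, CurveCoh17.hmap k (biproduct.ι G i) n (CurveCoh17.hmap k (biproduct.π G i) n x) = x
        conv_rhs => rw [← CurveCoh17.hmap_id k (⨁ G) n x, ← biproduct.total, CurveCM.hmap_sum]
        exact Finset.sum_congr rfl fun i _ => (CurveCoh17.hmap_comp k _ _ n x).symm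
      right_inv := fun y => funext fun j => by
        show CurveCoh17.hmap k (biproduct.π G j) n (∑ i, CurveCoh17.hmap k (biproduct.ι G i) n (y i)) = y j
        rw [map_sum, Finset.sum_eq_single j]
        · rw [← CurveCoh17.hmap_comp, biproduct.ι_π_self, CurveCoh17.hmap_id]
        · intro i _ hij
          rw [← CurveCoh17.hmap_comp, biproduct.ι_π_ne G hij, CurveCoh17.hmap_zero]
        · simp }
  rw [← (CBC10.hmapLinEquiv k e n).finrank_eq, a.finrank_eq, Module.finrank_pi_fintype, Finset.sum_const,
    Finset.card_univ, Fintype.card_fin, smul_eq_mul]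

/-- The differentials of an abelian variety have a global basis of `g` members. -/
theorem exists_isBas_omega (k : Type u) [Field k] (A : Over (Spec (CommRingCat.of k))) [GrpObj A] [IsProper A.hom]
    [Smooth A.hom] {g : ℕ} (hg : topologicalKrullDim A.left = g) :
    ∃ e : Fin g → Γ(Omega.sheaf A.hom, (⊤ : A.left.Opens)), IsBas (Omega.sheaf A.hom) ⊤ e := by
  haveI := AbRigid.geometricallyReduced_of_smooth A.hom
  haveI : Subsingleton (Spec (CommRingCat.of k)) := inferInstanceAs (Subsingleton (PrimeSpectrum k))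
  obtain ⟨r, D, e₀, hD, he₀⟩ := PushUnit3.exists_isBas_nhd' (GrpOmega.isFinLocFree_unit_omega A)
    (IsLocalRing.closedPoint k)
  have htop : D = ⊤ := top_le_iff.1 fun y _ => (Subsingleton.elim (IsLocalRing.closedPoint k) y) ▸ hD
  subst htop
  obtain ⟨φ⟩ := GrpOmega.nonempty_omega_iso_unit A
  have hb := (AmpleFin18.isBas_pullback A.hom he₀).map_iso φ.symm
  obtain ⟨x⟩ : Nonempty A.left := ⟨η[A].left (IsLocalRing.closedPoint k)⟩
  obtain ⟨U, m, hxU, ⟨ψ⟩, hd⟩ := Omega12.exists_free_nbhd_smooth A.hom (Omega12.isUniversal_dOmega A.hom) x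
  have hb' := P1Split.isBas_of_restrict U.ι _ ((P1Split.isBas_coprod (fun _ : Fin m => Coh.structureModule (U : Scheme.{u}))
    (fun _ => M1.one ⊤) fun _ => P1Split.isGen_one ⊤).map_iso ψ.symm)
  have hm : m = g := by
    have : ((m : ℕ) : WithBot ℕ∞) = ((g : ℕ) : WithBot ℕ∞) := by
      rw [← hd, FiniteMor15.fibreDimAt_of_subsingleton, GrpCM20.localDim_eq, hg]
    exact_mod_cast this
  obtain rfl : r = g := (card_eq_of_isBas hb hb' (x := x) trivial ⟨⟨x, hxU⟩, trivial, rfl⟩).trans hm
  exact ⟨_, hb⟩

end Groth.Agent.HodgeDim13
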