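import Groth.Agent.Lib.Poincare22.Socle

/-!
# Lengths of the homology of a resolution of the residue field

If the homology of a bounded below flat complex sits in one degree and is killed by `c`, all its homology with
coefficients is killed by `c`; for a resolution of the residue field of a regular local ring the lengths are
binomial coefficients.
-/

universe u

open CategoryTheory CategoryTheory.Limits IsLocalRing
open scoped TensorProduct Pointwise

set_option linter.style.haveILetI false
set_option linter.unusedSectionVars false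
set_option maxHeartbeats 1000000
set_option backward.isDefEq.respectTransparency false

noncomputable section

namespace Groth.Agent.HodgeDim13

open FlatCxLib Groth.Agent.DMod Groth.Agent.Index22 Groth.Agent.Poincare22

variable {A : Type u} [CommRing A] (P : ChainComplex (ModuleCat.{u} A) ℤ) [∀ i, Module.Flat A (P.X i)]

variable {M M' N : Type u} [AddCommGroup M] [Module A M] [AddCommGroup M'] [Module A M'] [AddCommGroup N] [Module A N]

/-- The connecting map in the coefficients. -/
theorem exists_delta (i : M →ₗ[A] M') (g : M' →ₗ[A] N) (hi : Function.Injective i) (hg : Function.Surjective g)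
    (hex : Function.Exact i g) {p q : ℤ} (hpq : q + 1 = p) :
    ∃ δ : CohIII.T P p (ModuleCat.of A N) →ₗ[A] CohIII.T P q (ModuleCat.of A M),
      Function.Exact (Tmap P p g) δ ∧ Function.Exact δ (Tmap P q i) := by
  let f' := CohIII.tensorMap P (ModuleCat.ofHom i)
  let g' := CohIII.tensorMap P (ModuleCat.ofHom g)
  let S : ShortComplex (ChainComplex (ModuleCat.{u} A) ℤ) := ShortComplex.mk f' g' (by
    ext n x
    exact (lTensor_exact (P.X n) hex hg).apply_apply_eq_zero x)
  have hS : S.ShortExact := HomologicalComplex.shortExact_of_degreewise_shortExact S fun n =>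
    { exact := (ShortComplex.ShortExact.moduleCat_exact_iff_function_exact _).2 (lTensor_exact (P.X n) hex hg)
      mono_f := (ModuleCat.mono_iff_injective _).2
        (Module.Flat.lTensor_preserves_injective_linearMap (M := P.X n) i hi)
      epi_g := (ModuleCat.epi_iff_surjective _).2 (LinearMap.lTensor_surjective (P.X n) hg) }
  have hr : (ComplexShape.down ℤ).Rel p q := by simpa [ComplexShape.down] using hpq
  exact ⟨(hS.δ p q hr).hom,
    (ShortComplex.ShortExact.moduleCat_exact_iff_function_exact _).1 (hS.homology_exact₃ p q hr),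
    (ShortComplex.ShortExact.moduleCat_exact_iff_function_exact _).1 (hS.homology_exact₁ p q hr)⟩

omit [∀ i, Module.Flat A (P.X i)] in
theorem subsingleton_T_of_isZero {p : ℤ} (h : IsZero (P.X p)) (M : Type u) [AddCommGroup M] [Module A M] :
    Subsingleton (CohIII.T P p (ModuleCat.of A M)) := by
  haveI : Subsingleton (P.X p) := ModuleCat.subsingleton_of_isZero h
  haveI : Subsingleton (P.X p ⊗[A] M) := ⟨fun a b => by
    suffices ∀ z : P.X p ⊗[A] M, z = 0 from (this a).trans (this b).symm
    intro z
    induction z using TensorProduct.induction_on with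
    | zero => rfl
    | tmul x y => rw [Subsingleton.elim x 0, TensorProduct.zero_tmul]
    | add a b ha hb => rw [ha, hb, add_zero]⟩
  refine ⟨fun a b => ?_⟩
  suffices ∀ t : CohIII.T P p (ModuleCat.of A M), t = 0 from (this a).trans (this b).symm
  intro t
  obtain ⟨z, rfl⟩ := homologyπ_surjective (CohIII.tensorObj P (ModuleCat.of A M)) p t
  have hz : z = 0 := iCycles_injective _ p (@Subsingleton.elim (P.X p ⊗[A] M) _ _ _)
  rw [hz, map_zero]

/-- Free coefficients of the kernel of a presentation. -/
theorem exists_presentation (M : Type u) [AddCommGroup M] [Module A M] :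
    ∃ (K : Submodule A (M →₀ A)) (g : (M →₀ A) →ₗ[A] M), Function.Surjective g ∧
      Function.Exact K.subtype g :=
  ⟨_, _, Finsupp.linearCombination_id_surjective A M, LinearMap.exact_subtype_ker_map _⟩

variable {d : ℤ} (hbd : ∃ i₀ : ℤ, ∀ i < i₀, IsZero (P.X i)) (hH : ∀ p : ℤ, p ≠ d → Subsingleton (FlatCxLib.H P p))

include hH in
theorem subsingleton_T_flat {p : ℤ} (hp : p ≠ d) (F : Type u) [AddCommGroup F] [Module A F] [Module.Flat A F] :
    Subsingleton (CohIII.T P p (ModuleCat.of A F)) := by
  haveI := hH p hp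
  haveI : Subsingleton (FlatCxLib.H P p ⊗[A] F) := ⟨fun a b => by
    suffices ∀ z : FlatCxLib.H P p ⊗[A] F, z = 0 from (this a).trans (this b).symm
    intro z
    induction z using TensorProduct.induction_on with
    | zero => rfl
    | tmul x y => rw [Subsingleton.elim x 0, TensorProduct.zero_tmul]
    | add a b ha hb => rw [ha, hb, add_zero]⟩
  exact (Equiv.ofBijective _ (theta_bijective_of_flat P (p := p) F)).symm.subsingleton

include hbd hH in
/-- There is no homology below the degree of the homology, whatever the coefficients. -/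
theorem subsingleton_T_below : ∀ {p : ℤ}, p < d → ∀ (M : Type u) [AddCommGroup M] [Module A M],
    Subsingleton (CohIII.T P p (ModuleCat.of A M)) := by
  obtain ⟨i₀, hi₀⟩ := hbd
  suffices ∀ (n : ℕ) (p : ℤ), p < i₀ + n → p < d → ∀ (M : Type u) [AddCommGroup M] [Module A M],
      Subsingleton (CohIII.T P p (ModuleCat.of A M)) from
    fun {p} hp M _ _ => this (p + 1 - i₀).toNat p (by omega) hp M
  intro n
  induction n with
  | zero => exact fun p hp _ M _ _ => subsingleton_T_of_isZero P (hi₀ p (by simpa using hp)) M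
  | succ n ih =>
    intro p hp hpd M _ _
    obtain ⟨K, g, hg, hex⟩ := exists_presentation (A := A) M
    obtain ⟨δ, h1, -⟩ := exists_delta P (M := K) K.subtype g K.injective_subtype hg hex (sub_add_cancel p 1)
    haveI := subsingleton_T_flat P hH hpd.ne (M →₀ A)
    haveI := ih (p - 1) (by push_cast at hp ⊢; omega) (by omega) K
    refine ⟨fun a b => ?_⟩
    suffices ∀ t : CohIII.T P p (ModuleCat.of A M), t = 0 from (this a).trans (this b).symm
    intro t
    obtain ⟨y, hy⟩ := (h1 t).1 (Subsingleton.elim _ _)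
    rw [← hy, Subsingleton.elim y 0, map_zero]

include hbd hH in
/-- All homology with coefficients is killed by whatever kills the homology. -/
theorem smul_T_eq_zero {c : A} (hc : ∀ t : FlatCxLib.H P d, c • t = 0) (p : ℤ) (M : Type u) [AddCommGroup M]
    [Module A M] (t : CohIII.T P p (ModuleCat.of A M)) : c • t = 0 := by
  rcases lt_or_ge p d with hp | hp
  · exact @Subsingleton.elim _ (subsingleton_T_below P hbd hH hp M) _ _
  obtain ⟨n, rfl⟩ : ∃ n : ℕ, p = d + n := ⟨(p - d).toNat, by omega⟩
  induction n generalizing M with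
  | zero =>
    obtain ⟨K, g, hg, hex⟩ := exists_presentation (A := A) M
    obtain ⟨δ, h1, -⟩ := exists_delta P (M := K) K.subtype g K.injective_subtype hg hex
      (sub_add_cancel (d + ((0 : ℕ) : ℤ)) 1)
    haveI := subsingleton_T_below P hbd hH (show d + ((0 : ℕ) : ℤ) - 1 < d by simp) K
    obtain ⟨y, rfl⟩ := (h1 t).1 (Subsingleton.elim _ _)
    obtain ⟨w, rfl⟩ := (theta_bijective_of_flat P (p := d + ((0 : ℕ) : ℤ)) (M →₀ A)).2 y
    suffices c • w = 0 by rw [← map_smul, ← map_smul, this, map_zero, map_zero]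
    have hc0 : ∀ s : FlatCxLib.H P (d + ((0 : ℕ) : ℤ)), c • s = 0 := by
      rw [show d + ((0 : ℕ) : ℤ) = d by simp]
      exact hc
    induction w using TensorProduct.induction_on with
    | zero => rw [smul_zero]
    | tmul x y => rw [TensorProduct.smul_tmul', hc0, TensorProduct.zero_tmul]
    | add a b ha hb => rw [smul_add, ha, hb, add_zero]
  | succ n ih =>
    obtain ⟨K, g, hg, hex⟩ := exists_presentation (A := A) M
    obtain ⟨δ, h1, -⟩ := exists_delta P (M := K) K.subtype g K.injective_subtype hg hex
      (show (d + (n : ℤ)) + 1 = d + ((n + 1 : ℕ) : ℤ) by push_cast; ring)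
    haveI := subsingleton_T_flat P hH (show d + ((n + 1 : ℕ) : ℤ) ≠ d by omega) (M →₀ A)
    have h2 : δ (c • t) = 0 := by rw [map_smul]; exact ih K _ (by omega)
    obtain ⟨y, hy⟩ := (h1 _).1 h2
    rw [← hy, Subsingleton.elim y 0, map_zero]

/-- The length of homology with coefficients in a quotient by a regular element killing everything. -/
theorem length_quot (a : A) (ha : IsSMulRegular M a)
    (hk : ∀ (p : ℤ) (t : CohIII.T P p (ModuleCat.of A M)), a • t = 0) {p q : ℤ} (hpq : q + 1 = p) :
    Module.length A (CohIII.T P p (ModuleCat.of A (QuotSMulTop a M))) =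
      Module.length A (CohIII.T P p (ModuleCat.of A M)) + Module.length A (CohIII.T P q (ModuleCat.of A M)) := by
  have hex : Function.Exact (mulA a M) (Submodule.mkQ (a • (⊤ : Submodule A M))) := by
    intro m
    rw [Submodule.mkQ_apply, Submodule.Quotient.mk_eq_zero, Submodule.mem_smul_pointwise_iff_exists]
    constructor
    · rintro ⟨y, -, rfl⟩
      exact ⟨y, rfl⟩
    · rintro ⟨y, rfl⟩
      exact ⟨y, trivial, rfl⟩
  obtain ⟨δ, h1, h2⟩ := exists_delta P (mulA a M) (Submodule.mkQ (a • (⊤ : Submodule A M))) ha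
    (Submodule.mkQ_surjective _) hex hpq
  have hzero : ∀ r t, Tmap P r (mulA a M) t = 0 := fun r t => by
    rw [mulA, Tmap_smul, Tmap_id, LinearMap.smul_apply, LinearMap.id_apply]
    exact hk r t
  refine Module.length_eq_add_of_exact (Tmap P p (Submodule.mkQ (a • (⊤ : Submodule A M)))) δ ?_ ?_ h1
  · refine (injective_iff_map_eq_zero _).2 fun t ht => ?_
    obtain ⟨y, rfl⟩ := (Tmap_exact P p (i := mulA a M) ha (Submodule.mkQ_surjective _) hex t).1 ht
    exact hzero _ _
  · exact fun t => (h2 t).1 (hzero _ _)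

section Residue

variable {g : ℕ} (hH' : ∀ p : ℤ, p ≠ -(g : ℤ) → Subsingleton (FlatCxLib.H P p))
  (m : Ideal A) [m.IsMaximal] (eH : FlatCxLib.H P (-(g : ℤ)) ≃ₗ[A] A ⧸ m)

/-- A local algebra with the residue field of `A` at `m`. -/
theorem nonempty_residue_equiv (L : Type u) [CommRing L] [Algebra A L] [IsLocalRing L]
    (hmap : Ideal.map (algebraMap A L) m = maximalIdeal L)
    (hsurj : Function.Surjective (fun x : A => Ideal.Quotient.mk (maximalIdeal L) (algebraMap A L x))) :
    Nonempty ((A ⧸ m) ≃ₗ[A] L ⧸ maximalIdeal L) := by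
  let φ : (A ⧸ m) →ₗ[A] L ⧸ maximalIdeal L := Submodule.liftQ m (Algebra.linearMap A (L ⧸ maximalIdeal L))
    fun c hc => by
      rw [LinearMap.mem_ker, Algebra.linearMap_apply]
      exact Ideal.Quotient.eq_zero_iff_mem.2 (hmap ▸ Ideal.mem_map_of_mem _ hc)
  refine ⟨LinearEquiv.ofBijective φ ⟨(injective_iff_map_eq_zero φ).2 fun x hx => ?_, fun y => ?_⟩⟩
  · obtain ⟨y, rfl⟩ := Submodule.Quotient.mk_surjective m x
    rw [Submodule.Quotient.mk_eq_zero]
    by_contra hy
    obtain ⟨z, i, hi, hz⟩ := ‹m.IsMaximal›.exists_inv hy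
    have h1 := congrArg (algebraMap A (L ⧸ maximalIdeal L)) hz
    rw [map_add, map_mul, map_one, show algebraMap A (L ⧸ maximalIdeal L) y = 0 from hx, mul_zero, zero_add,
      show algebraMap A (L ⧸ maximalIdeal L) i = 0 from
        Ideal.Quotient.eq_zero_iff_mem.2 (hmap ▸ Ideal.mem_map_of_mem _ hi)] at h1
    exact zero_ne_one h1
  · obtain ⟨x, hx⟩ := hsurj y
    exact ⟨Submodule.Quotient.mk x, hx⟩

theorem length_quot_maximal : Module.length A (A ⧸ m) = 1 := by
  haveI : IsSimpleModule A (A ⧸ m) := isSimpleModule_iff_isCoatom.2 ‹m.IsMaximal›.out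
  exact Module.length_eq_one A _

include hbd hH' eH in
/-- The homology with coefficients in the residue field of a regular point has binomial lengths. -/
theorem length_T_residue (L : Type u) [CommRing L] [Algebra A L] [IsRegularLocalRing L] [Module.Flat A L]
    (hL : (maximalIdeal L).spanFinrank = g) (hmap : Ideal.map (algebraMap A L) m = maximalIdeal L)
    (hsurj : Function.Surjective (fun x : A => Ideal.Quotient.mk (maximalIdeal L) (algebraMap A L x))) (i : ℕ) :
    Module.length A (CohIII.T P (-(g : ℤ) + i) (ModuleCat.of A (A ⧸ m))) = (g.choose i : ℕ∞) := by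
  have hkill : ∀ c ∈ m, ∀ t : FlatCxLib.H P (-(g : ℤ)), c • t = 0 := fun c hc t => by
    refine eH.injective ?_
    rw [map_smul, map_zero]
    obtain ⟨y, hy⟩ := Ideal.Quotient.mk_surjective (eH t)
    rw [← hy]
    exact Ideal.Quotient.eq_zero_iff_mem.2 (Ideal.mul_mem_right _ _ hc)
  suffices ∀ j ≤ g, ∃ (R : Type u) (_ : CommRing R) (_ : Algebra A R) (_ : IsRegularLocalRing R),
      (maximalIdeal R).spanFinrank = g - j ∧ Ideal.map (algebraMap A R) m = maximalIdeal R ∧
      Function.Surjective (fun x : A => Ideal.Quotient.mk (maximalIdeal R) (algebraMap A R x)) ∧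
      ∀ i : ℕ, Module.length A (CohIII.T P (-(g : ℤ) + i) (ModuleCat.of A R)) = (j.choose i : ℕ∞) by
    obtain ⟨R, _, _, _, hR, hmR, hsR, hlen⟩ := this g le_rfl
    rw [Nat.sub_self] at hR
    have hbot : maximalIdeal R = ⊥ :=
      isField_iff_maximalIdeal_eq.1 (RegLoc.spanFinrank_maximalIdeal_eq_zero_iff.1 hR)
    obtain ⟨e⟩ := nonempty_residue_equiv m R hmR hsR
    let e' : (R ⧸ maximalIdeal R) ≃ₗ[A] R :=
      (LinearEquiv.ofBijective (Ideal.Quotient.mkₐ A (maximalIdeal R)).toLinearMap
        ⟨(injective_iff_map_eq_zero _).2 fun x hx => by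
          simpa [hbot] using (Ideal.Quotient.eq_zero_iff_mem.1 hx), Ideal.Quotient.mk_surjective⟩).symm
    obtain ⟨eT⟩ := nonempty_congr P (e.trans e') (-(g : ℤ) + i)
    rw [eT.length_eq]
    exact hlen i
  intro j hj
  induction j with
  | zero =>
    refine ⟨L, inferInstance, inferInstance, inferInstance, hL, hmap, hsurj, fun i => ?_⟩
    rcases i with - | i
    · rw [show -(g : ℤ) + ((0 : ℕ) : ℤ) = -(g : ℤ) by simp, Nat.choose_zero_right, Nat.cast_one]
      obtain ⟨e⟩ := nonempty_residue_equiv m L hmap hsurj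
      let e1 : (A ⧸ m) ⊗[A] L ≃ₗ[A] L ⧸ (m • ⊤ : Submodule A L) := TensorProduct.quotTensorEquivQuotSMul L m
      let e2 : (L ⧸ (m • ⊤ : Submodule A L)) ≃ₗ[A] L ⧸ maximalIdeal L :=
        (Submodule.quotEquivOfEq _ (LinearMap.ker (Ideal.Quotient.mkₐ A (maximalIdeal L)).toLinearMap) (by
          ext y
          rw [Ideal.smul_top_eq_map, hmap, Submodule.restrictScalars_mem, LinearMap.mem_ker]
          exact Ideal.Quotient.eq_zero_iff_mem.symm)).trans
          ((Ideal.Quotient.mkₐ A (maximalIdeal L)).toLinearMap.quotKerEquivOfSurjective Ideal.Quotient.mk_surjective)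
      rw [← (LinearEquiv.ofBijective _ (theta_bijective_of_flat P (p := -(g : ℤ)) L)).length_eq,
        (((TensorProduct.congr eH (LinearEquiv.refl A L)).trans (e1.trans e2)).trans e.symm).length_eq,
        length_quot_maximal m]
    · rw [Nat.choose_zero_succ, Nat.cast_zero, Module.length_eq_zero_iff]
      exact subsingleton_T_flat P hH' (by omega) L
  | succ j ih =>
    obtain ⟨R, _, _, _, hR, hmR, hsR, hlen⟩ := ih (by omega)
    haveI := RegLoc.isDomain R
    have hne : ¬ IsField R := fun h => by
      rw [RegLoc.spanFinrank_maximalIdeal_eq_zero_iff.2 h] at hR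
      omega
    obtain ⟨a, ha, ha2⟩ : ∃ a ∈ m, algebraMap A R a ∉ maximalIdeal R ^ 2 := by
      by_contra h
      push Not at h
      refine hne (isField_iff_maximalIdeal_eq.2 ?_)
      refine Submodule.eq_bot_of_le_smul_of_le_jacobson_bot (maximalIdeal R) _ (IsNoetherian.noetherian _) ?_
        (maximalIdeal_le_jacobson _)
      rw [smul_eq_mul, ← pow_two]
      exact hmR.ge.trans (Ideal.map_le_iff_le_comap.2 h)
    have hx : algebraMap A R a ∈ maximalIdeal R := hmR ▸ Ideal.mem_map_of_mem _ ha
    have hx0 : algebraMap A R a ≠ 0 := fun h => ha2 (h ▸ Submodule.zero_mem _)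
    have hreg : IsSMulRegular R a := fun x y hxy => by
      simp only [Algebra.smul_def] at hxy
      exact mul_left_cancel₀ hx0 hxy
    obtain ⟨hR', hdim⟩ := RegLoc.quotient_span_singleton hx ha2
    haveI := hR'
    have hmax : (maximalIdeal R).map (Ideal.Quotient.mk (Ideal.span {algebraMap A R a})) =
        maximalIdeal (R ⧸ Ideal.span {algebraMap A R a}) :=
      (RegLoc.maximalIdeal_quotient).symm
    let mk : R →ₐ[A] R ⧸ Ideal.span {algebraMap A R a} := Ideal.Quotient.mkₐ A _
    let ε : QuotSMulTop a R ≃ₗ[A] R ⧸ Ideal.span {algebraMap A R a} :=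
      (Submodule.quotEquivOfEq _ (LinearMap.ker mk.toLinearMap) (by
        ext y
        rw [Submodule.mem_smul_pointwise_iff_exists, LinearMap.mem_ker]
        show _ ↔ Ideal.Quotient.mk _ y = 0
        rw [Ideal.Quotient.eq_zero_iff_mem, Ideal.mem_span_singleton']
        simp only [Submodule.mem_top, true_and, Algebra.smul_def, mul_comm]
        )).trans (mk.toLinearMap.quotKerEquivOfSurjective Ideal.Quotient.mk_surjective)
    refine ⟨R ⧸ Ideal.span {algebraMap A R a}, inferInstance, inferInstance, inferInstance, by omega,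
      by rw [← hmax, ← hmR, Ideal.map_map]; rfl, fun y => ?_, fun i => ?_⟩
    · obtain ⟨y', rfl⟩ := Ideal.Quotient.mk_surjective y
      obtain ⟨z, rfl⟩ := Ideal.Quotient.mk_surjective y'
      obtain ⟨x, hx'⟩ := hsR (Ideal.Quotient.mk _ z)
      refine ⟨x, Ideal.Quotient.eq.2 ?_⟩
      rw [← hmax]
      exact Ideal.mem_map_of_mem _ (Ideal.Quotient.eq.1 hx')
    · obtain ⟨eT⟩ := nonempty_congr P ε (-(g : ℤ) + i)
      rw [← eT.length_eq, length_quot P a hreg (fun p t => smul_T_eq_zero P hbd hH' (hkill a ha) p R t)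
        (sub_add_cancel (-(g : ℤ) + i) 1), hlen i]
      rcases i with - | i
      · haveI := subsingleton_T_below P hbd hH' (show -(g : ℤ) + ((0 : ℕ) : ℤ) - 1 < -(g : ℤ) by simp) R
        rw [Module.length_eq_zero, add_zero, Nat.choose_zero_right, Nat.choose_zero_right]
      · rw [show -(g : ℤ) + ((i + 1 : ℕ) : ℤ) - 1 = -(g : ℤ) + i by push_cast; ring, hlen i,
          Nat.choose_succ_succ, Nat.cast_add, add_comm]

end Residue

end Groth.Agent.HodgeDim13
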