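import Groth.Agent.Lib.HodgeDim13.CxLen
import Groth.Agent.Lib.Poinc13.Global

/-!
# The cohomology of the structure sheaf of an abelian variety
-/

universe u

open CategoryTheory Limits MonoidalCategory CartesianMonoidalCategory AlgebraicGeometry TopologicalSpace Opposite
open scoped MonObj GrpObj

set_option linter.style.haveILetI false
set_option linter.unusedSectionVars false
set_option maxHeartbeats 1000000
set_option maxRecDepth 4000
set_option backward.isDefEq.respectTransparency false

noncomputable section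

namespace Groth.Agent.HodgeDim13

open Groth.Agent.Poincare22 Groth.Agent.Poinc13
open Groth.Agent.AbDual21 Groth.Agent.PicDesc21 Groth.Agent.CohFound Groth.Agent.CBC10 Groth.Agent.MumVan22

variable {k : Type u} [Field k] {A At : Over (Spec (CommRingCat.of k))} [GrpObj A] [GrpObj At]
  [IsProper A.hom] [Smooth A.hom] [GeometricallyConnected A.hom] [GeometricallyIntegral A.hom]
  [IsProper At.hom] [Smooth At.hom] [GeometricallyIntegral At.hom]
  {P : (PicF.XT A.hom At).Modules}
  (hP : PicF.IsInvertible P) (hD : IsPLike A At P)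

include hP hD

/-- `h^n(A, O) = C(g, n)` in the presence of a class with the properties of a Poincaré class. -/
theorem finrank_HH_structure {g : ℕ} (hg : topologicalKrullDim A.left = g) [A.left.Over (Spec (CommRingCat.of k))]
    (hover : A.left ↘ Spec (CommRingCat.of k) = A.hom) (n : ℕ) :
    Module.finrank k (Coh.HH A.left (Coh.structureModule A.left) n) = g.choose n := by
  obtain ⟨hAt, V, hV, ev, hev, -, heV, -⟩ := exists_local hP hD hg
  haveI : IsProper (snd A At).left := inferInstanceAs (IsProper (pullback.snd A.hom At.hom))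
  haveI : Flat (snd A At).left := AbRigid.flat_snd_left A At
  haveI : IsLocallyNoetherian At.left := LocallyOfFiniteType.isLocallyNoetherian At.hom
  haveI : IsNoetherianRing Γ(At.left, V) := IsLocallyNoetherian.component_noetherian ⟨V, hV⟩
  haveI := isMaximal_ker hV hev
  set m := RingHom.ker ev.hom with hm
  have hprime : (hV.primeIdealOf ⟨origin At, heV⟩).asIdeal = m := by
    have h1 : hV.fromSpec (Spec.map ev (IsLocalRing.closedPoint k)) = origin At := by
      rw [← Scheme.Hom.comp_apply, hev]; rfl
    have h2 : hV.primeIdealOf ⟨origin At, heV⟩ = Spec.map ev (IsLocalRing.closedPoint k) :=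
      hV.fromSpec.isOpenEmbedding.injective ((hV.fromSpec_primeIdealOf _).trans h1.symm)
    rw [h2]
    exact ((Ideal.IsMaximal.eq_of_le inferInstance (Ideal.IsPrime.ne_top inferInstance) fun c hc => by
      show ev.hom c ∈ IsLocalRing.maximalIdeal k
      rw [show ev.hom c = 0 from hc]
      exact zero_mem _) : m = _).symm
  haveI : IsRegularLocalRing (At.left.presheaf.stalk (origin At)) := SmoothReg17.isRegularLocalRing_stalk At.hom _
  letI := At.left.presheaf.algebra_section_stalk (⟨origin At, heV⟩ : V)
  haveI hloc := hV.isLocalization_stalk ⟨origin At, heV⟩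
  haveI : IsLocalization.AtPrime (At.left.presheaf.stalk (origin At)) m := by
    have h' : ∀ (q : Ideal Γ(At.left, V)) [q.IsPrime], (hV.primeIdealOf ⟨origin At, heV⟩).asIdeal = q →
        IsLocalization.AtPrime (At.left.presheaf.stalk (origin At)) q := by
      rintro q _ rfl
      exact hloc
    exact h' m hprime
  let e := (IsLocalization.algEquiv m.primeCompl (At.left.presheaf.stalk (origin At)) (Localization.AtPrime m)).toRingEquiv
  let L := Localization.AtPrime m
  haveI : IsRegularLocalRing L := IsRegularLocalRing.of_ringEquiv e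
  have hh : ringKrullDim L = (g : WithBot ℕ∞) := by
    rw [← ringKrullDim_eq_of_ringEquiv e, GrpField.ringKrullDim_stalk_eq At _ isClosed_origin, hAt]
  have hfin : (IsLocalRing.maximalIdeal L).spanFinrank = g := by
    have := IsRegularLocalRing.spanFinrank_maximalIdeal (R := L)
    rw [hh] at this
    exact_mod_cast this
  haveI : Module.Flat Γ(At.left, V) L := IsLocalization.flat L m.primeCompl
  have hfl : FlatMod.IsFlatOver (snd A At).left P := DPerf.isFlatOver_of_isFlat (snd A At).left (M := P) fun x =>
    KFlat.Sch.isFlat_of_isFinLocFree (M2.isFinLocFree_of_isInvertible hP) x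
  have hcoh := CubeField.isCoh_of_isInvertible hP
  obtain ⟨C, hCfin, hCflat, hbd, hpos, hC⟩ := exists_complexOn hcoh hfl hV
  haveI := hCfin
  haveI := hCflat
  obtain ⟨hH, ⟨eH⟩⟩ := equiv_residue C m hh hpos (fun q x hx => dRank_eq_zero hP hD hV hev hC hpos q x hx)
    (fun M _ _ => corep_residue hP hD hV hev hC hpos M)
  have hH' : ∀ p : ℤ, p ≠ -(g : ℤ) → Subsingleton (FlatCxLib.H C p) := by
    intro p hp
    rcases lt_or_gt_of_ne hp with h | h
    · obtain ⟨j, rfl⟩ : ∃ j : ℕ, p = -(j : ℤ) := ⟨(-p).toNat, by omega⟩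
      letI := overU (snd A At).left hV
      obtain ⟨eT⟩ := nonempty_T_equiv_HH (snd A At).left hcoh.1 hV hC j
      haveI : Subsingleton (Hc ((abF _).obj P) j ((snd A At).left ⁻¹ᵁ V)) :=
        VanFib13.subsingleton_hc_affine (snd A At).left hV g
          (fun w _ => by rw [Index22.dim_fibre_snd, hg]) hcoh.1 (show g < j by omega)
      obtain ⟨e'⟩ := nonempty_HHon_addEquiv P ((snd A At).left ⁻¹ᵁ V) j
      haveI : Subsingleton (Coh.HH ((snd A At).left ⁻¹ᵁ V : (A ⊗ At).left.Opens) (resU (snd A At).left P V) j) :=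
        e'.toEquiv.subsingleton
      exact eT.toEquiv.subsingleton
    · exact hH p h
  have hsurj : Function.Surjective
      (fun x : Γ(At.left, V) => Ideal.Quotient.mk (IsLocalRing.maximalIdeal L) (algebraMap _ L x)) := by
    intro y
    obtain ⟨l, rfl⟩ := Ideal.Quotient.mk_surjective y
    obtain ⟨⟨a, s⟩, hs⟩ := IsLocalization.surj m.primeCompl l
    obtain ⟨z, i, hi, hz⟩ := ‹m.IsMaximal›.exists_inv s.2
    refine ⟨a * z, Ideal.Quotient.eq.2 ?_⟩
    have h1 := congrArg (algebraMap Γ(At.left, V) L) hz
    rw [map_add, map_mul, map_one] at h1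
    rw [map_mul, ← hs, show l * algebraMap Γ(At.left, V) L s * algebraMap Γ(At.left, V) L z - l = -(l * algebraMap Γ(At.left, V) L i) by
      linear_combination l * h1]
    exact neg_mem (Ideal.mul_mem_left _ _ ((IsLocalization.AtPrime.to_map_mem_maximal_iff L m i).2 hi))
  have hlen := length_T_residue C hbd hH' m eH L hfin (IsLocalization.AtPrime.map_eq_maximalIdeal m L) hsurj
  -- the fibre at the origin
  letI alg : Algebra Γ(At.left, V) k := ev.hom.toAlgebra
  have halg : algebraMap Γ(At.left, V) k = ev.hom := rfl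
  have hks : Function.Surjective (algebraMap Γ(At.left, V) k) := fun c => ⟨_, ev_cst hV hev c⟩
  let jA : A ⟶ A ⊗ At := lift (𝟙 A) (toUnit A ≫ η[At])
  have hsq : IsPullback jA.left (A.left ↘ Spec (CommRingCat.of k)) (snd A At).left
      (Spec.map (CommRingCat.ofHom (algebraMap Γ(At.left, V) k)) ≫ hV.fromSpec) := by
    have h0 : Spec.map (CommRingCat.ofHom (algebraMap Γ(At.left, V) k)) ≫ hV.fromSpec = η[At].left := hev
    rw [h0, hover]
    have h2 : jA.left ≫ (snd A At).left = A.hom ≫ η[At].left := by
      rw [← Over.comp_left, lift_snd, Over.comp_left, Over.toUnit_left]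
    refine IsPullback.of_right ?_ h2 (IsPullback.of_hasPullback A.hom At.hom)
    have h1 : jA.left ≫ pullback.fst A.hom At.hom = 𝟙 A.left :=
      congrArg CommaMorphism.left (lift_fst (𝟙 A) (toUnit A ≫ η[At]))
    have h3 : η[At].left ≫ At.hom = 𝟙 (Spec (CommRingCat.of k)) := Over.w η[At]
    rw [h1, h3]
    exact IsPullback.of_horiz_isIso ⟨by simp⟩
  obtain ⟨ε, hε⟩ := hC.exists_bc hcoh.1 hsq
  -- the pullback of `P` to `A` is trivial
  have htriv : Nonempty ((Scheme.Modules.pullback jA.left).obj P ≅ Coh.structureModule A.left) := by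
    have hjA : jA = (ρ_ A).inv ≫ A ◁ η[At] := by
      apply CartesianMonoidalCategory.hom_ext <;> simp [jA]
    have h1 : η[At] = (1 : 𝟙_ (Over (Spec (CommRingCat.of k))) ⟶ At) := by
      rw [Hom.one_def, toUnit_unique (toUnit _) (𝟙 _), Category.id_comp]
    refine (PicGrp.cl_eq_cl_iff _ _).1 ?_
    rw [← PicLoc.pullCl_cl, hjA, Over.comp_left, ← pullCl_pullCl, (hD.triv _).2 h1]
    exact pullCl_structure _
  obtain ⟨i⟩ := htriv
  -- compare lengths
  let Φ : CohIII.T C (-(n : ℤ)) (ModuleCat.of Γ(At.left, V) k) ≃+ Coh.HH A.left (Coh.structureModule A.left) n :=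
    (ε n).trans (hmapLinEquiv k i n).toAddEquiv
  have hΦ : ∀ (a : Γ(At.left, V)) x, Φ (a • x) = algebraMap Γ(At.left, V) k a • Φ x := by
    intro a x
    have h1 : (CohIII.TFun C (-(n : ℤ))).map
        (ModuleCat.ofHom (LinearMap.mulLeft Γ(At.left, V) (algebraMap Γ(At.left, V) k a))) x = a • x := by
      rw [show LinearMap.mulLeft Γ(At.left, V) (algebraMap Γ(At.left, V) k a) =
          a • (LinearMap.id : k →ₗ[Γ(At.left, V)] k) from LinearMap.ext fun y => (Algebra.smul_def a y).symm]
      exact (LinearMap.congr_fun (FlatCxLib.Tmap_smul C _ a LinearMap.id) x).trans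
        (congrArg (a • ·) (LinearMap.congr_fun (FlatCxLib.Tmap_id C _) x))
    show hmapLinEquiv k i n (ε n (a • x)) = algebraMap _ k a • hmapLinEquiv k i n (ε n x)
    rw [← map_smul]
    exact congrArg _ ((congrArg (ε n) h1.symm).trans (hε n _ x))
  letI : Module Γ(At.left, V) (Coh.HH A.left (Coh.structureModule A.left) n) :=
    Module.compHom _ (algebraMap Γ(At.left, V) k)
  haveI : IsScalarTower Γ(At.left, V) k (Coh.HH A.left (Coh.structureModule A.left) n) :=
    ⟨fun a c x => by rw [Algebra.smul_def, mul_smul]; rfl⟩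
  let ΦA := Φ.toLinearEquiv (R := Γ(At.left, V)) hΦ
  let q : (Γ(At.left, V) ⧸ m) ≃ₗ[Γ(At.left, V)] k :=
    LinearMap.quotKerEquivOfSurjective (Algebra.linearMap Γ(At.left, V) k) hks
  have hle : ∀ r : ℤ, -(n : ℤ) = r → Module.length Γ(At.left, V)
      (Coh.HH A.left (Coh.structureModule A.left) n) = Module.length Γ(At.left, V)
        (CohIII.T C r (ModuleCat.of Γ(At.left, V) (Γ(At.left, V) ⧸ m))) := by
    rintro r rfl
    obtain ⟨e'⟩ := Poincare22.nonempty_congr C q (-(n : ℤ))
    exact (e'.trans ΦA).length_eq.symm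
  have hval : Module.length Γ(At.left, V) (Coh.HH A.left (Coh.structureModule A.left) n) = (g.choose n : ℕ∞) := by
    by_cases hn : n ≤ g
    · rw [hle (-(g : ℤ) + ((g - n : ℕ) : ℤ)) (by omega), hlen, Nat.choose_symm hn]
    · rw [hle _ rfl, Nat.choose_eq_zero_of_lt (not_le.1 hn), Nat.cast_zero, Module.length_eq_zero_iff]
      exact subsingleton_T_below C hbd hH' (by omega) _
  rw [Module.length_eq_of_surjective hks] at hval
  haveI : Module.Finite k (Coh.HH A.left (Coh.structureModule A.left) n) := by
    haveI := (isFiniteLength_iff_isNoetherian_isArtinian.1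
      (Module.length_ne_top_iff.1 (show Module.length k (Coh.HH A.left (Coh.structureModule A.left) n) ≠ ⊤ by
        rw [hval]; exact ENat.natCast_ne_top _))).1
    infer_instance
  rw [Module.length_eq_finrank] at hval
  exact_mod_cast hval

end Groth.Agent.HodgeDim13
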